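import Mathlib
import Groth.Agent.NormFlatDimLib.Main

/-! The associativity formula for Samuel multiplicities, in limit form. -/

set_option autoImplicit false
set_option linter.style.haveILetI false
set_option maxHeartbeats 1000000

universe u

open Filter Topology CommAlgDim

namespace Groth.Agent.AssocFormulaLib

variable {A : Type u} [CommRing A] [IsNoetherianRing A] [IsLocalRing A] (I : Ideal A)

/-- The normalised Samuel function. -/
noncomputable def L (d : ℕ) (M : Type u) [AddCommGroup M] [Module A M] (t : ℕ) : ℝ :=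
  (d.factorial : ℝ) * (chi I M t : ℝ) / (t : ℝ) ^ d

/-- The length at a prime. -/
noncomputable def lenp (p : PrimeSpectrum A) (M : Type u) [AddCommGroup M] [Module A M] : ℕ∞ :=
  Module.length (Localization.AtPrime p.asIdeal) (LocalizedModule p.asIdeal.primeCompl M)

variable (A) in
/-- The primes of coheight `d`. -/
def topSet (d : ℕ) : Set (PrimeSpectrum A) := {p | ringKrullDim (A ⧸ p.asIdeal) = d}

theorem support_max (hI : ∃ N : ℕ, IsLocalRing.maximalIdeal A ^ N ≤ I) (M : Type u) [AddCommGroup M] [Module A M] :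
    ∀ P ∈ Module.support A M, I ≤ P.asIdeal → P.asIdeal.IsMaximal := fun P _ hP => by
  obtain ⟨N, hN⟩ := hI
  have h1 : IsLocalRing.maximalIdeal A ≤ P.asIdeal := P.2.le_of_pow_le (hN.trans hP)
  exact (IsLocalRing.maximalIdeal.isMaximal A).eq_of_le P.2.ne_top h1 ▸ IsLocalRing.maximalIdeal.isMaximal A

theorem length_fin (hI : ∃ N : ℕ, IsLocalRing.maximalIdeal A ^ N ≤ I) (M : Type u) [AddCommGroup M]
    [Module A M] [Module.Finite A M] :
    Module.length A (M ⧸ I • (⊤ : Submodule A M)) ≠ ⊤ :=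
  length_quotient_smul_ne_top (support_max I hI M)

theorem exists_poly (hm : I ≤ IsLocalRing.maximalIdeal A) (hI : ∃ N : ℕ, IsLocalRing.maximalIdeal A ^ N ≤ I)
    (M : Type u) [AddCommGroup M] [Module A M] [Module.Finite A M] [Nontrivial M] :
    ∃ P : Polynomial ℚ, IsHSPoly I M P ∧ (P.natDegree : WithBot ℕ∞) = Module.supportDim A M :=
  (NormFlatDim.exists_hsPoly I (fun h => (IsLocalRing.maximalIdeal.isMaximal A).ne_top (top_le_iff.mp (h ▸ hm)))
    M (support_max I hI M)).2

theorem L_eq_eval {d : ℕ} {M : Type u} [AddCommGroup M] [Module A M] {P : Polynomial ℚ} (hP : IsHSPoly I M P) :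
    ∀ᶠ t : ℕ in atTop, L I d M t = (d.factorial : ℝ) *
      ((P.map (Rat.castHom ℝ)).eval (t : ℝ) / ((Polynomial.X : Polynomial ℝ) ^ d).eval (t : ℝ)) := by
  filter_upwards [hP] with t ht
  have h1 : (P.map (Rat.castHom ℝ)).eval (t : ℝ) = ((P.eval (t : ℚ) : ℚ) : ℝ) := by
    rw [show (t : ℝ) = Rat.castHom ℝ (t : ℚ) by simp, Polynomial.eval_map, Polynomial.eval₂_at_apply]
    simp
  rw [L, Polynomial.eval_pow, Polynomial.eval_X, h1, ← ht, mul_div_assoc]
  push_cast
  rfl

theorem tendsto_zero_of_lt (hm : I ≤ IsLocalRing.maximalIdeal A) (hI : ∃ N : ℕ, IsLocalRing.maximalIdeal A ^ N ≤ I)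
    (d : ℕ) (M : Type u) [AddCommGroup M] [Module A M] [Module.Finite A M]
    (h : Module.supportDim A M < d) : Tendsto (L I d M) atTop (𝓝 0) := by
  rcases subsingleton_or_nontrivial M with hM | hM
  · have : L I d M = fun _ => (0 : ℝ) := by
      funext t
      simp [L, chi, len, Module.length_eq_zero]
    rw [this]
    exact tendsto_const_nhds
  obtain ⟨P, hP, hdeg⟩ := exists_poly I hm hI M
  rw [← hdeg] at h
  have hlt : P.natDegree < d := by exact_mod_cast h
  have h1 := (Polynomial.div_tendsto_zero_of_degree_lt (P.map (Rat.castHom ℝ)) (Polynomial.X ^ d) (by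
    rw [Polynomial.degree_X_pow]
    exact lt_of_le_of_lt Polynomial.degree_map_le
      (lt_of_le_of_lt Polynomial.degree_le_natDegree (by exact_mod_cast hlt)))).comp
        (tendsto_natCast_atTop_atTop (R := ℝ))
  have h2 := h1.const_mul (d.factorial : ℝ)
  rw [mul_zero] at h2
  exact h2.congr' ((L_eq_eval I (d := d) hP).mono fun t ht => ht.symm)

theorem chi_le_add {N M Q : Type u} [AddCommGroup N] [Module A N] [Module.Finite A N] [AddCommGroup M] [Module A M]
    [AddCommGroup Q] [Module A Q] [Module.Finite A Q] (hI : ∃ N : ℕ, IsLocalRing.maximalIdeal A ^ N ≤ I)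
    (f : N →ₗ[A] M) (g : M →ₗ[A] Q) (hg : Function.Surjective g) (H : Function.Exact f g) (t : ℕ) :
    chi I M t ≤ chi I N t + chi I Q t := by
  let i : N ⧸ I ^ t • (⊤ : Submodule A N) →ₗ[A] M ⧸ I ^ t • (⊤ : Submodule A M) :=
    Submodule.mapQ _ _ f (by
      rw [← Submodule.map_le_iff_le_comap, Submodule.map_smul'', Submodule.map_top]
      exact Submodule.smul_mono le_rfl le_top)
  let p : M ⧸ I ^ t • (⊤ : Submodule A M) →ₗ[A] Q ⧸ I ^ t • (⊤ : Submodule A Q) :=
    Submodule.mapQ _ _ g (by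
      rw [← Submodule.map_le_iff_le_comap, Submodule.map_smul'', Submodule.map_top]
      exact Submodule.smul_mono le_rfl le_top)
  have hex : LinearMap.ker p ≤ LinearMap.range i := by
    intro z hz
    obtain ⟨m, rfl⟩ := Submodule.mkQ_surjective _ z
    have hm : g m ∈ Submodule.map g (I ^ t • (⊤ : Submodule A M)) := by
      rw [Submodule.map_smul'', Submodule.map_top, LinearMap.range_eq_top.2 hg]
      exact (Submodule.Quotient.mk_eq_zero _).1 hz
    obtain ⟨s, hs, hsm⟩ := hm
    obtain ⟨x, hx⟩ := (H (m - s)).1 (by rw [map_sub, hsm, sub_self])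
    exact ⟨Submodule.Quotient.mk x, (Submodule.Quotient.eq _).2 (by
      rw [hx]; simpa using neg_mem hs)⟩
  have h1 := length_quotient_ne_top (length_fin I hI N) t
  have h2 := length_quotient_ne_top (length_fin I hI Q) t
  have hp : Function.Surjective p := fun z => by
    obtain ⟨z, rfl⟩ := Submodule.mkQ_surjective _ z
    obtain ⟨m, rfl⟩ := hg z
    exact ⟨Submodule.Quotient.mk m, rfl⟩
  have h3 : Module.length A (M ⧸ I ^ t • (⊤ : Submodule A M)) =
      Module.length A (LinearMap.ker p) + Module.length A (Q ⧸ I ^ t • (⊤ : Submodule A Q)) :=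
    Module.length_eq_add_of_exact (LinearMap.ker p).subtype p (Submodule.injective_subtype _) hp
      (LinearMap.exact_subtype_ker_map p)
  have h4 : Module.length A (LinearMap.ker p) ≤ Module.length A (N ⧸ I ^ t • (⊤ : Submodule A N)) :=
    (Module.length_le_of_injective (Submodule.inclusion hex) (Submodule.inclusion_injective hex)).trans
      (Module.length_le_of_surjective i.rangeRestrict i.surjective_rangeRestrict)
  have h5 : Module.length A (M ⧸ I ^ t • (⊤ : Submodule A M)) ≤
      Module.length A (N ⧸ I ^ t • (⊤ : Submodule A N)) + Module.length A (Q ⧸ I ^ t • (⊤ : Submodule A Q)) :=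
    h3.trans_le (add_le_add h4 le_rfl)
  have h6 : Module.length A (N ⧸ I ^ t • (⊤ : Submodule A N)) + Module.length A (Q ⧸ I ^ t • (⊤ : Submodule A Q)) ≠ ⊤ :=
    WithTop.add_ne_top.2 ⟨h1, h2⟩
  rw [chi, chi, chi, len, len, len, ← ENat.toNat_add h1 h2]
  exact ENat.toNat_le_toNat h5 h6

theorem tendsto_add {N M Q : Type u} [AddCommGroup N] [Module A N] [Module.Finite A N] [AddCommGroup M] [Module A M]
    [Module.Finite A M] [AddCommGroup Q] [Module A Q] [Module.Finite A Q]
    (hI : ∃ N : ℕ, IsLocalRing.maximalIdeal A ^ N ≤ I) (d : ℕ)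
    (f : N →ₗ[A] M) (g : M →ₗ[A] Q) (hf : Function.Injective f) (hg : Function.Surjective g)
    (H : Function.Exact f g) {a b : ℝ} (ha : Tendsto (L I d N) atTop (𝓝 a)) (hb : Tendsto (L I d Q) atTop (𝓝 b)) :
    Tendsto (L I d M) atTop (𝓝 (a + b)) := by
  obtain ⟨c, hc⟩ := exists_chi_add_le (I := I) f g hf hg H (length_fin I hI M)
  have hfrac : Tendsto (fun t : ℕ => (((t - c : ℕ) : ℝ) / (t : ℝ)) ^ d) atTop (𝓝 1) := by
    have h0 : Tendsto (fun t : ℕ => 1 - (c : ℝ) / (t : ℝ)) atTop (𝓝 1) := by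
      have := (tendsto_const_div_atTop_nhds_zero_nat (c : ℝ)).const_sub 1
      rwa [sub_zero] at this
    have h1 : Tendsto (fun t : ℕ => ((t - c : ℕ) : ℝ) / (t : ℝ)) atTop (𝓝 1) := by
      refine h0.congr' ?_
      filter_upwards [eventually_ge_atTop c, eventually_ge_atTop 1] with t ht ht1
      rw [Nat.cast_sub ht]
      have : (t : ℝ) ≠ 0 := by exact_mod_cast Nat.one_le_iff_ne_zero.1 ht1
      field_simp
    simpa using h1.pow d
  have hlow : Tendsto (fun t => L I d N (t - c) * (((t - c : ℕ) : ℝ) / (t : ℝ)) ^ d + L I d Q t) atTop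
      (𝓝 (a + b)) := by
    simpa using ((ha.comp (tendsto_sub_atTop_nat c)).mul hfrac).add hb
  refine tendsto_of_tendsto_of_tendsto_of_le_of_le' hlow (ha.add hb) ?_ ?_
  · filter_upwards [eventually_gt_atTop c] with t ht
    have h1 : ((chi I N (t - c) : ℕ) : ℝ) + chi I Q t ≤ chi I M t := by exact_mod_cast hc t ht.le
    have h2 : ((t - c : ℕ) : ℝ) ^ d ≠ 0 := pow_ne_zero _ (by exact_mod_cast (show t - c ≠ 0 by omega))
    simp only [L]
    rw [div_pow, div_mul_div_comm, mul_comm (((t - c : ℕ) : ℝ) ^ d), mul_div_mul_right _ _ h2, ← add_div]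
    refine div_le_div_of_nonneg_right ?_ (by positivity)
    rw [← mul_add]
    exact mul_le_mul_of_nonneg_left h1 (by positivity)
  · refine Eventually.of_forall fun t => ?_
    have h1 : ((chi I M t : ℕ) : ℝ) ≤ chi I N t + chi I Q t := by exact_mod_cast chi_le_add I hI f g hg H t
    simp only [L]
    rw [← add_div, ← mul_add]
    exact div_le_div_of_nonneg_right (mul_le_mul_of_nonneg_left h1 (by positivity)) (by positivity)

omit [IsLocalRing A] in
theorem lenp_add {N M Q : Type u} [AddCommGroup N] [Module A N] [AddCommGroup M] [Module A M]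
    [AddCommGroup Q] [Module A Q] (p : PrimeSpectrum A)
    (f : N →ₗ[A] M) (g : M →ₗ[A] Q) (hf : Function.Injective f) (hg : Function.Surjective g)
    (H : Function.Exact f g) : lenp p M = lenp p N + lenp p Q :=
  Module.length_eq_add_of_exact (LocalizedModule.map p.asIdeal.primeCompl f) (LocalizedModule.map p.asIdeal.primeCompl g)
    (LocalizedModule.map_injective _ f hf) (LocalizedModule.map_surjective _ g hg)
    (LocalizedModule.map_exact _ f g H)

omit [IsLocalRing A] in
theorem lenp_congr {N M : Type u} [AddCommGroup N] [Module A N] [AddCommGroup M] [Module A M]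
    (p : PrimeSpectrum A) (e : N ≃ₗ[A] M) : lenp p N = lenp p M := by
  have h := lenp_add (N := N) (M := M) (Q := M ⧸ LinearMap.range e.toLinearMap) p e.toLinearMap
    (LinearMap.range e.toLinearMap).mkQ e.injective (Submodule.mkQ_surjective _) (LinearMap.exact_map_mkQ_range _)
  have : Subsingleton (M ⧸ LinearMap.range e.toLinearMap) :=
    Submodule.Quotient.subsingleton_iff.2 (LinearMap.range_eq_top.2 e.surjective)
  have h0 : lenp p (M ⧸ LinearMap.range e.toLinearMap) = 0 := by
    rw [lenp, Module.length_eq_zero_iff]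
    exact LocalizedModule.subsingleton_iff.2 fun m => ⟨1, one_mem _, Subsingleton.elim _ _⟩
  rw [h, h0, add_zero]

theorem dim_quot_lt {p q : Ideal A} [p.IsPrime] [q.IsPrime] (h : p < q) :
    ringKrullDim (A ⧸ q) + 1 ≤ ringKrullDim (A ⧸ p) := by
  obtain ⟨x, hxq, hxp⟩ := SetLike.exists_of_lt h
  have hx : Ideal.Quotient.mk p x ∈ nonZeroDivisors (A ⧸ p) :=
    mem_nonZeroDivisors_of_ne_zero fun h0 => hxp (Ideal.Quotient.eq_zero_iff_mem.1 h0)
  refine le_trans ?_ (ringKrullDim_quotient_succ_le_of_nonZeroDivisor hx)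
  gcongr
  refine ringKrullDim_le_of_surjective (Ideal.Quotient.lift _ (Ideal.Quotient.factor h.le) ?_) ?_
  · intro a ha
    obtain ⟨b, rfl⟩ := Ideal.mem_span_singleton.1 ha
    rw [map_mul, Ideal.Quotient.factor_mk, Ideal.Quotient.eq_zero_iff_mem.2 hxq, zero_mul]
  · intro z
    obtain ⟨a, rfl⟩ := Ideal.Quotient.mk_surjective z
    exact ⟨Ideal.Quotient.mk _ (Ideal.Quotient.mk p a), rfl⟩

omit [IsLocalRing A] [IsNoetherianRing A] in
theorem lenp_quot_self (p : PrimeSpectrum A) : lenp p (A ⧸ p.asIdeal) = 1 := by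
  rw [lenp, Module.length_eq_one_iff, isSimpleModule_iff_toSpanSingleton_surjective]
  have hne : ∀ a : A, a ∉ p.asIdeal → ∀ s : p.asIdeal.primeCompl,
      LocalizedModule.mk (Ideal.Quotient.mk p.asIdeal a) s ≠ 0 := by
    intro a ha s h0
    rw [← LocalizedModule.zero_mk (1 : p.asIdeal.primeCompl), LocalizedModule.mk_eq] at h0
    obtain ⟨u, hu⟩ := h0
    simp only [one_smul, smul_zero] at hu
    change Ideal.Quotient.mk p.asIdeal ((u : A) * a) = 0 at hu
    rw [Ideal.Quotient.eq_zero_iff_mem] at hu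
    exact (p.2.mem_or_mem hu).elim u.2 ha
  refine ⟨nontrivial_of_ne _ _ (hne 1 (fun h => p.2.ne_top ((Ideal.eq_top_iff_one _).2 h)) 1), fun z hz w => ?_⟩
  induction z using LocalizedModule.induction_on with
  | h m s =>
    obtain ⟨a, rfl⟩ := Ideal.Quotient.mk_surjective m
    have ha : a ∉ p.asIdeal := fun h => hz (by
      rw [Ideal.Quotient.eq_zero_iff_mem.2 h, LocalizedModule.zero_mk])
    induction w using LocalizedModule.induction_on with
    | h n r =>
      obtain ⟨b, rfl⟩ := Ideal.Quotient.mk_surjective n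
      refine ⟨Localization.mk (b * (s : A)) (r * ⟨a, ha⟩), ?_⟩
      rw [LinearMap.toSpanSingleton_apply, LocalizedModule.mk_smul_mk, LocalizedModule.mk_eq]
      refine ⟨1, ?_⟩
      simp only [one_smul, Submonoid.smul_def, Submonoid.coe_mul]
      change Ideal.Quotient.mk p.asIdeal ((r : A) * (b * (s : A) * a)) = Ideal.Quotient.mk p.asIdeal ((r : A) * a * (s : A) * b)
      ring_nf

omit [IsLocalRing A] [IsNoetherianRing A] in
theorem lenp_quot_eq_zero (p : PrimeSpectrum A) (J : Ideal A) (h : ¬ J ≤ p.asIdeal) : lenp p (A ⧸ J) = 0 := by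
  rw [lenp, Module.length_eq_zero_iff, LocalizedModule.subsingleton_iff]
  obtain ⟨x, hxJ, hxp⟩ := Set.not_subset.1 h
  intro m
  obtain ⟨a, rfl⟩ := Ideal.Quotient.mk_surjective m
  exact ⟨x, hxp, Ideal.Quotient.eq_zero_iff_mem.2 (J.mul_mem_right a hxJ)⟩

/-- The associativity formula. -/
theorem assoc_formula (hm : I ≤ IsLocalRing.maximalIdeal A) (hI : ∃ N : ℕ, IsLocalRing.maximalIdeal A ^ N ≤ I)
    (d : ℕ) (e : PrimeSpectrum A → ℝ) (he : ∀ p ∈ topSet A d, Tendsto (L I d (A ⧸ p.asIdeal)) atTop (𝓝 (e p)))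
    (M : Type u) [AddCommGroup M] [Module A M] [Module.Finite A M] (hd : Module.supportDim A M ≤ d) :
    (∀ p ∈ topSet A d, lenp p M ≠ ⊤) ∧ (topSet A d ∩ {p | lenp p M ≠ 0}).Finite ∧
      Tendsto (L I d M) atTop (𝓝 (∑ᶠ p ∈ topSet A d, ((lenp p M).toNat : ℝ) * e p)) := by
  revert hd
  refine IsNoetherianRing.induction_on_isQuotientEquivQuotientPrime A (M := M) inferInstance
    (motive := fun N _ _ _ => Module.supportDim A N ≤ d →
      (∀ p ∈ topSet A d, lenp p N ≠ ⊤) ∧ (topSet A d ∩ {p | lenp p N ≠ 0}).Finite ∧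
      Tendsto (L I d N) atTop (𝓝 (∑ᶠ p ∈ topSet A d, ((lenp p N).toNat : ℝ) * e p))) ?_ ?_ ?_
  · intro N _ _ _ _ _
    have h0 : ∀ p : PrimeSpectrum A, lenp p N = 0 := fun p => by
      unfold lenp
      rw [Module.length_eq_zero_iff]
      exact LocalizedModule.subsingleton_iff.2 fun m => ⟨1, one_mem _, Subsingleton.elim _ _⟩
    have hL : L I d N = fun _ => (0 : ℝ) := by
      funext t
      simp [L, chi, len, Module.length_eq_zero]
    refine ⟨fun p _ => by simp [h0], by simp [h0], ?_⟩
    rw [hL]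
    simp [h0]
  · intro N _ _ _ P eP hdN
    have hlen : ∀ q, lenp q N = lenp q (A ⧸ P.asIdeal) := fun q => lenp_congr q eP
    rw [Module.supportDim_eq_of_equiv eP, Module.supportDim_quotient_eq_ringKrullDim] at hdN
    have hzero : ∀ q ∈ topSet A d, q ≠ P → lenp q (A ⧸ P.asIdeal) = 0 := by
      intro q hq hne
      refine lenp_quot_eq_zero q _ fun hle => ?_
      have hlt : P.asIdeal < q.asIdeal :=
        lt_of_le_of_ne hle fun h => hne (PrimeSpectrum.ext h.symm)
      have h1 := (dim_quot_lt hlt).trans hdN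
      rw [hq, ← Nat.cast_one, ← Nat.cast_add, Nat.cast_le] at h1
      omega
    have hL : L I d N = L I d (A ⧸ P.asIdeal) := by
      funext t
      have e2 : (N ⧸ I ^ t • (⊤ : Submodule A N)) ≃ₗ[A] ((A ⧸ P.asIdeal) ⧸ I ^ t • (⊤ : Submodule A (A ⧸ P.asIdeal))) :=
        Submodule.Quotient.equiv _ _ eP (by rw [Submodule.map_smul'', Submodule.map_top, LinearEquiv.range])
      simp only [L, chi, len, e2.length_eq]
    by_cases hP : P ∈ topSet A d
    · have h1 : lenp P (A ⧸ P.asIdeal) = 1 := lenp_quot_self P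
      refine ⟨fun q hq => ?_, (Set.finite_singleton P).subset fun q hq => ?_, ?_⟩
      · rw [hlen]
        by_cases hqP : q = P
        · rw [hqP, h1]; exact ENat.one_ne_top
        · rw [hzero q hq hqP]; exact ENat.zero_ne_top
      · by_contra hqP
        exact hq.2 ((hlen q).trans (hzero q hq.1 hqP))
      · rw [hL]
        rw [finsum_mem_eq_sum_of_subset _ (t := {P}) ?_ (by simpa using hP), Finset.sum_singleton]
        · rw [hlen, h1]; simpa using he P hP
        · intro q hq
          rw [Finset.coe_singleton, Set.mem_singleton_iff]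
          by_contra hne
          exact hq.2 (by simp [hlen, hzero q hq.1 hne])
    · have h0 : ∀ q ∈ topSet A d, lenp q N = 0 := fun q hq =>
        (hlen q).trans (hzero q hq fun h => hP (h ▸ hq))
      have hlt : Module.supportDim A (A ⧸ P.asIdeal) < d := by
        rw [Module.supportDim_quotient_eq_ringKrullDim]
        exact lt_of_le_of_ne hdN hP
      refine ⟨fun q hq => by simp [h0 q hq], ?_, ?_⟩
      · convert Set.finite_empty
        ext q
        simpa using h0 q
      · rw [hL, finsum_mem_congr rfl (g := fun _ => (0 : ℝ)) (fun q hq => by simp [h0 q hq])]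
        simpa using tendsto_zero_of_lt I hm hI d (A ⧸ P.asIdeal) hlt
  · intro N₁ _ _ _ N₂ _ _ _ N₃ _ _ _ f g hf hg H ih₁ ih₃ hd₂
    obtain ⟨t₁, f₁, l₁⟩ := ih₁ ((Module.supportDim_le_of_injective f hf).trans hd₂)
    obtain ⟨t₃, f₃, l₃⟩ := ih₃ ((Module.supportDim_le_of_surjective g hg).trans hd₂)
    have hadd : ∀ p, lenp p N₂ = lenp p N₁ + lenp p N₃ := fun p => lenp_add p f g hf hg H
    refine ⟨fun p hp => by rw [hadd]; exact WithTop.add_ne_top.2 ⟨t₁ p hp, t₃ p hp⟩,
      (f₁.union f₃).subset fun p hp => ?_, ?_⟩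
    · by_contra hcon
      simp only [Set.mem_union, Set.mem_inter_iff, Set.mem_setOf_eq, not_or, not_and, not_not] at hcon
      exact hp.2 (by rw [hadd, hcon.1 hp.1, hcon.2 hp.1, add_zero])
    · have h12 : ∑ᶠ p ∈ topSet A d, ((lenp p N₂).toNat : ℝ) * e p =
          ∑ᶠ p ∈ topSet A d, ((lenp p N₁).toNat : ℝ) * e p + ∑ᶠ p ∈ topSet A d, ((lenp p N₃).toNat : ℝ) * e p := by
        rw [← finsum_mem_add_distrib' (f₁.subset fun p hp => ⟨hp.1, fun h => hp.2 (by simp [h])⟩)
          (f₃.subset fun p hp => ⟨hp.1, fun h => hp.2 (by simp [h])⟩)]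
        refine finsum_mem_congr rfl fun p hp => ?_
        rw [hadd, ENat.toNat_add (t₁ p hp) (t₃ p hp)]
        push_cast; ring
      rw [h12]
      exact tendsto_add I hI d f g hf hg H l₁ l₃

end Groth.Agent.AssocFormulaLib
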