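import Groth.Agent.AssocFormulaLib.Basic

set_option autoImplicit false
set_option linter.style.haveILetI false
set_option maxHeartbeats 1000000

universe u

open Filter Topology CommAlgDim

namespace Groth.Agent.AssocFormulaLib

variable {A : Type u} [CommRing A] [IsNoetherianRing A] [IsLocalRing A]

/-- A product of generators. -/
def monom {d : ℕ} (g : Fin d → A) {n : ℕ} (s : Sym (Fin d) n) : A := ((s : Multiset (Fin d)).map g).prod

omit [IsNoetherianRing A] [IsLocalRing A] in
theorem pow_le_span_monom {d : ℕ} (g : Fin d → A) : ∀ n : ℕ,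
    Ideal.span (Set.range g) ^ n ≤ Ideal.span (Set.range (monom g (n := n)))
  | 0 => by
    rw [pow_zero, Ideal.one_eq_top]
    exact ((Ideal.eq_top_iff_one (Ideal.span (Set.range (monom g (n := 0))))).2
      (Ideal.subset_span ⟨Sym.nil, by simp [monom]⟩)).ge
  | n + 1 => by
    rw [pow_succ']
    refine (Ideal.mul_mono_right (pow_le_span_monom g n)).trans ?_
    rw [Ideal.span_mul_span', Ideal.span_le]
    rintro _ ⟨_, ⟨i, rfl⟩, _, ⟨s, rfl⟩, rfl⟩
    exact Ideal.subset_span ⟨Sym.cons i s, by simp [monom, Sym.coe_cons]⟩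

/-- The Samuel function of a `d`-generated ideal is at most that of a polynomial ring. -/
theorem chi_le_multichoose {d : ℕ} (g : Fin d → A)
    (hI : ∃ N : ℕ, IsLocalRing.maximalIdeal A ^ N ≤ Ideal.span (Set.range g)) (n : ℕ) :
    chi (Ideal.span (Set.range g)) A (n + 1) ≤
      (Module.length A (A ⧸ Ideal.span (Set.range g))).toNat * (d + 1).multichoose n := by
  classical
  set q := Ideal.span (Set.range g)
  have hfin := length_quotient_ne_top (length_fin q hI A)
  have hq1 : (Module.length A (A ⧸ q)) ≠ ⊤ := by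
    have := length_fin q hI A
    rwa [(Submodule.quotEquivOfEq _ _ (by simp : q • (⊤ : Submodule A A) = q)).length_eq] at this
  induction n with
  | zero =>
    rw [Nat.multichoose_zero_right, mul_one, chi, len,
      (Submodule.quotEquivOfEq _ _ (by simp : q ^ (0 + 1) • (⊤ : Submodule A A) = q)).length_eq]
  | succ n ih =>
    set m := n + 1
    have hle : q ^ (m + 1) • (⊤ : Submodule A A) ≤ q ^ m • ⊤ := pow_smul_top_antitone q m.le_succ
    let π := Submodule.factor hle
    have hker : LinearMap.ker π ≤ LinearMap.range (∑ s : Sym (Fin d) m,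
        (Submodule.liftQ q ((q ^ (m + 1) • (⊤ : Submodule A A)).mkQ ∘ₗ LinearMap.mulLeft A (monom g s)) (by
          intro x hx
          rw [LinearMap.mem_ker, LinearMap.comp_apply, Submodule.mkQ_apply, Submodule.Quotient.mk_eq_zero,
            LinearMap.mulLeft_apply, smul_eq_mul, Ideal.mul_top, pow_succ]
          refine Ideal.mul_mem_mul ?_ hx
          have : ∀ t : Multiset (Fin d), (t.map g).prod ∈ q ^ Multiset.card t := by
            intro t
            induction t using Multiset.induction_on with
            | empty => simp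
            | cons a t ih =>
              rw [Multiset.map_cons, Multiset.prod_cons, Multiset.card_cons, pow_succ']
              exact Ideal.mul_mem_mul (Ideal.subset_span ⟨a, rfl⟩) ih
          have h5 := this (s : Multiset (Fin d))
          rwa [Sym.card_coe] at h5)) ∘ₗ LinearMap.proj s) := by
      intro z hz
      obtain ⟨x, rfl⟩ := Submodule.mkQ_surjective _ z
      have hx : x ∈ q ^ m := by
        have : x ∈ q ^ m • (⊤ : Submodule A A) := (Submodule.Quotient.mk_eq_zero _).1 hz
        simpa using this
      obtain ⟨c, hc⟩ := Ideal.mem_span_range_iff_exists_fun.1 (pow_le_span_monom g m hx)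
      refine ⟨fun s => Submodule.Quotient.mk (c s), ?_⟩
      rw [LinearMap.sum_apply, ← hc, map_sum]
      refine Finset.sum_congr rfl fun s _ => ?_
      show Submodule.Quotient.mk (monom g s * c s) = _
      rw [mul_comm]
      rfl
    have h1 : Module.length A (LinearMap.ker π) ≤
        (Nat.card (Sym (Fin d) m) : ℕ∞) * Module.length A (A ⧸ q) := by
      refine ((Module.length_le_of_injective (Submodule.inclusion hker) (Submodule.inclusion_injective hker)).trans
        (Module.length_le_of_surjective _ (LinearMap.surjective_rangeRestrict _))).trans ?_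
      rw [Module.length_pi, ENat.card_eq_coe_natCard]
    have h2 : Module.length A (A ⧸ q ^ (m + 1) • (⊤ : Submodule A A)) =
        Module.length A (LinearMap.ker π) + Module.length A (A ⧸ q ^ m • (⊤ : Submodule A A)) :=
      Module.length_eq_add_of_exact _ π (Submodule.injective_subtype _) (Submodule.factor_surjective _)
        (LinearMap.exact_subtype_ker_map π)
    have hk : Module.length A (LinearMap.ker π) ≠ ⊤ :=
      ne_top_of_le_ne_top (hfin (m + 1)) (h2 ▸ self_le_add_right _ _)
    have h3 : chi q A (m + 1) = (Module.length A (LinearMap.ker π)).toNat + chi q A m := by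
      rw [chi, chi, len, len, h2, ENat.toNat_add hk (hfin m)]
    have h4 : (Module.length A (LinearMap.ker π)).toNat ≤ d.multichoose m * (Module.length A (A ⧸ q)).toNat := by
      rw [Nat.card_eq_fintype_card, Sym.card_sym_eq_multichoose, Fintype.card_fin] at h1
      have := ENat.toNat_le_toNat h1 (by
        rw [← ENat.coe_toNat hq1, ← Nat.cast_mul]; exact ENat.coe_ne_top _)
      simpa [ENat.toNat_mul] using this
    rw [h3, Nat.multichoose_succ_succ, mul_add, mul_comm _ (d.multichoose m)]
    exact Nat.add_le_add h4 ih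

/-- The multiplicity of a quotient domain exists and is at least one. -/
theorem exists_mult (I : Ideal A) (hm : I ≤ IsLocalRing.maximalIdeal A)
    (hI : ∃ N : ℕ, IsLocalRing.maximalIdeal A ^ N ≤ I) (d : ℕ) (p : PrimeSpectrum A) (hp : p ∈ topSet A d) :
    ∃ e : ℝ, 1 ≤ e ∧ Tendsto (L I d (A ⧸ p.asIdeal)) atTop (𝓝 e) := by
  haveI : Nontrivial (A ⧸ p.asIdeal) := Ideal.Quotient.nontrivial_iff.2 p.2.ne_top
  obtain ⟨P, hP, hdeg⟩ := exists_poly I hm hI (A ⧸ p.asIdeal)
  rw [Module.supportDim_quotient_eq_ringKrullDim, hp] at hdeg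
  have hPd : P.natDegree = d := by exact_mod_cast hdeg
  -- positivity
  have hlead : 0 < P.leadingCoeff := by
    have hpos : ∀ᶠ t : ℕ in atTop, 0 < P.eval (t : ℚ) := by
      filter_upwards [hP, eventually_ge_atTop 1] with t ht ht1
      rw [← ht, Nat.cast_pos, Nat.pos_iff_ne_zero, chi, len, ne_eq, ENat.toNat_eq_zero, not_or]
      refine ⟨?_, length_quotient_ne_top (length_fin I hI _) t⟩
      rw [Module.length_eq_zero_iff, Submodule.Quotient.subsingleton_iff]
      intro htop
      have h1 : (⊤ : Submodule A (A ⧸ p.asIdeal)) ≤ IsLocalRing.maximalIdeal A • ⊤ :=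
        htop.ge.trans (Submodule.smul_mono_left ((Ideal.pow_le_self (by omega)).trans hm))
      have h2 := Submodule.eq_bot_of_le_smul_of_le_jacobson_bot _ (⊤ : Submodule A (A ⧸ p.asIdeal))
        Module.Finite.fg_top h1 (IsLocalRing.maximalIdeal_le_jacobson ⊥)
      exact bot_ne_top h2.symm
    rcases Nat.eq_zero_or_pos d with h0 | h0
    · obtain ⟨t, ht⟩ := hpos.exists
      rw [Polynomial.eq_C_of_natDegree_eq_zero (hPd.trans h0), Polynomial.eval_C] at ht
      rwa [Polynomial.leadingCoeff, hPd.trans h0]
    · by_contra hcon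
      have := P.tendsto_atBot_of_leadingCoeff_nonpos
        (Polynomial.natDegree_pos_iff_degree_pos.1 (by omega)) (not_lt.1 hcon)
      obtain ⟨t, h1, h2⟩ := (((this.comp tendsto_natCast_atTop_atTop).eventually
        (eventually_le_atBot (0 : ℚ))).and hpos).exists
      exact absurd h2 (not_lt.2 h1)
  -- integrality
  have hint : ∃ z : ℤ, (z : ℚ) = P.leadingCoeff * (d.factorial : ℚ) := by
    obtain ⟨t₀, ht₀⟩ := eventually_atTop.1 hP
    refine ⟨∑ k ∈ Finset.range (d + 1), (-1 : ℤ) ^ (d - k) * (d.choose k : ℤ) *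
      (chi I (A ⧸ p.asIdeal) (t₀ + k) : ℤ), ?_⟩
    have h1 := congrFun (Polynomial.fwdDiff_iter_degree_eq_factorial P) (t₀ : ℚ)
    rw [hPd, fwdDiff_iter_eq_sum_shift] at h1
    simp only [smul_eq_mul, Pi.smul_apply, Pi.natCast_apply] at h1
    rw [← h1, Int.cast_sum]
    refine Finset.sum_congr rfl fun k _ => ?_
    rw [zsmul_eq_mul]
    push_cast
    have := ht₀ (t₀ + k) (by omega)
    push_cast at this
    rw [this]
    simp
  obtain ⟨z, hz⟩ := hint
  have hz1 : (1 : ℤ) ≤ z := by
    have : (0 : ℚ) < (z : ℚ) := by rw [hz]; positivity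
    exact_mod_cast this
  refine ⟨(d.factorial : ℝ) * ((P.leadingCoeff : ℝ) / 1), ?_, ?_⟩
  · rw [div_one]
    calc (1 : ℝ) ≤ (z : ℝ) := by exact_mod_cast hz1
      _ = ((P.leadingCoeff * (d.factorial : ℚ) : ℚ) : ℝ) := by rw [← hz]; simp
      _ = _ := by push_cast; ring
  · have hne : P ≠ 0 := fun h => by simp [h] at hlead
    have h1 := ((Polynomial.div_tendsto_atTop_leadingCoeff_div_of_degree_eq (P.map (Rat.castHom ℝ))
      (Polynomial.X ^ d) (by
        rw [Polynomial.degree_X_pow, Polynomial.degree_map, Polynomial.degree_eq_natDegree hne, hPd])).comp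
        (tendsto_natCast_atTop_atTop (R := ℝ))).const_mul (d.factorial : ℝ)
    rw [Polynomial.leadingCoeff_map, Polynomial.leadingCoeff_X_pow] at h1
    exact h1.congr' ((L_eq_eval I (d := d) hP).mono fun t ht => ht.symm)

end Groth.Agent.AssocFormulaLib
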